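import Mathlib
import Cfsg.Agent.ChevalleyStructure.SteinbergBruhat

/-!
# Rank two root data from positive root groups (characteristic 2 style)

`PosData m Γ`: positive root groups `X 0, …, X (m-1)` in angular order (`m` even: `B₂`, `G₂`, `³D₄`),
involutions `n0`, `n1` representing the simple reflections and the longest element `w0`.
From this we get the root data of `SteinbergBruhat` (Bruhat decomposition).

`iso_of_posData`: the Goursat argument: two simple groups generated by "the same" positive data are isomorphic.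
-/

set_option autoImplicit false
set_option linter.unusedSectionVars false

namespace Cfsg.Agent.RankTwo.Dihedral

open Cfsg.Agent.ChevalleyStructure.SteinbergBruhat

/-- Positive half of a rank two root datum; the roots `0, …, m-1` in angular order, simple roots `0` and `m-1`. -/
structure PosData (m : ℕ) (Γ : Type*) [Group Γ] where
  X : ℕ → Subgroup Γ
  n0 : Γ
  n1 : Γ
  w0 : Γ

namespace PosData

variable {m : ℕ} {Γ : Type*} [Group Γ] (P : PosData m Γ)

/-- torus elements of the first rank one group -/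
def Tor0 (h : Γ) : Prop :=
  P.n0 * h * P.n0 = h⁻¹ ∧ h * (P.n0 * P.w0) = (P.n0 * P.w0) * h ∧
    ∀ i, i < m → ∀ x ∈ P.X i, h * x * h⁻¹ ∈ P.X i ∧ h⁻¹ * x * h ∈ P.X i

/-- torus elements of the second rank one group -/
def Tor1 (h : Γ) : Prop :=
  P.n1 * h * P.n1 = h⁻¹ ∧ h * (P.n1 * P.w0) = (P.n1 * P.w0) * h ∧
    ∀ i, i < m → ∀ x ∈ P.X i, h * x * h⁻¹ ∈ P.X i ∧ h⁻¹ * x * h ∈ P.X i

/-- The axioms on the positive half. -/
structure Axioms : Prop where
  two_le : 2 ≤ m
  n0_sq : P.n0 * P.n0 = 1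
  n1_sq : P.n1 * P.n1 = 1
  w0_sq : P.w0 * P.w0 = 1
  w0_n0 : P.w0 * P.n0 = P.n0 * P.w0
  w0_n1 : P.w0 * P.n1 = P.n1 * P.w0
  wX0 : ∀ x ∈ P.X 0, (P.n0 * P.w0) * x = x * (P.n0 * P.w0)
  wX1 : ∀ x ∈ P.X (m - 1), (P.n1 * P.w0) * x = x * (P.n1 * P.w0)
  c0 : ∀ i, 1 ≤ i → i < m → ∀ x ∈ P.X i, P.n0 * x * P.n0 ∈ P.X (m - i)
  c1 : ∀ i, i + 2 ≤ m → ∀ x ∈ P.X i, P.n1 * x * P.n1 ∈ P.X (m - 2 - i)
  un0 : ∀ x ∈ P.X 0, ∀ i, 1 ≤ i → i < m → ∀ u ∈ P.X i,
    x * u * x⁻¹ ∈ ⨆ (j : ℕ) (_ : 1 ≤ j ∧ j < m), P.X j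
  un1 : ∀ x ∈ P.X (m - 1), ∀ i, i + 2 ≤ m → ∀ u ∈ P.X i,
    x * u * x⁻¹ ∈ ⨆ (j : ℕ) (_ : j + 2 ≤ m), P.X j
  gen0 : ∃ a ∈ P.X 0, ∃ b ∈ P.X 0, ∃ c ∈ P.X 0, P.n0 = a * (P.n0 * b * P.n0) * c
  gen1 : ∃ a ∈ P.X (m - 1), ∃ b ∈ P.X (m - 1), ∃ c ∈ P.X (m - 1), P.n1 = a * (P.n1 * b * P.n1) * c
  r0 : ∀ x ∈ P.X 0, x ≠ 1 → ∃ a ∈ P.X 0, ∃ h, P.Tor0 h ∧ ∃ b ∈ P.X 0, P.n0 * x * P.n0 = a * (P.n0 * h) * b
  r1 : ∀ x ∈ P.X (m - 1), x ≠ 1 → ∃ a ∈ P.X (m - 1), ∃ h, P.Tor1 h ∧ ∃ b ∈ P.X (m - 1),
    P.n1 * x * P.n1 = a * (P.n1 * h) * b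

/-- first simple reflection on the positive roots other than `0` -/
def f0 (i : Fin m) : Fin m := if h : i.val = 0 then i else ⟨m - i.val, by omega⟩

/-- second simple reflection on the positive roots other than `m-1` -/
def f1 (i : Fin m) : Fin m := if h : i.val + 1 = m then i else ⟨m - 2 - i.val, by omega⟩

/-- all root groups, `(false, i)` positive, `(true, i)` negative. -/
def XX (r : Bool × Fin m) : Subgroup Γ :=
  if r.1 then (P.X r.2.val).map (MulAut.conj P.w0).toMonoidHom else P.X r.2.val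

theorem XX_false (i : Fin m) : P.XX (false, i) = P.X i.val := rfl

theorem XX_true (i : Fin m) : P.XX (true, i) = (P.X i.val).map (MulAut.conj P.w0).toMonoidHom := rfl

/-- the torus: normaliser of all root groups -/
def HH : Subgroup Γ where
  carrier := {h | ∀ r, ∀ x ∈ P.XX r, h * x * h⁻¹ ∈ P.XX r ∧ h⁻¹ * x * h ∈ P.XX r}
  one_mem' := fun r x hx => by simpa using hx
  mul_mem' := by
    intro a b ha hb r x hx
    constructor
    · have := (ha r _ (hb r x hx).1).1
      have e : a * b * x * (a * b)⁻¹ = a * (b * x * b⁻¹) * a⁻¹ := by group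
      rw [e]; exact this
    · have := (hb r _ (ha r x hx).2).2
      have e : (a * b)⁻¹ * x * (a * b) = b⁻¹ * (a⁻¹ * x * a) * b := by group
      rw [e]; exact this
  inv_mem' := by
    intro a ha r x hx
    exact ⟨by simpa using (ha r x hx).2, by simpa using (ha r x hx).1⟩

/-- The root data of `SteinbergBruhat`. -/
def toRData [NeZero m] : RData Γ (Bool × Fin m) Bool where
  pos := fun r => r.1 = false
  neg := fun r => (!r.1, r.2)
  sim := fun i => if i then (false, ⟨m - 1, Nat.sub_lt (Nat.pos_of_ne_zero (NeZero.ne m)) one_pos⟩) else (false, ⟨0, Nat.pos_of_ne_zero (NeZero.ne m)⟩)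
  refl := fun i r => if i then (if r.2.val + 1 = m then (!r.1, r.2) else (r.1, f1 r.2))
    else (if r.2.val = 0 then (!r.1, r.2) else (r.1, f0 r.2))
  X := P.XX
  H := P.HH
  n := fun i => if i then P.n1 else P.n0

theorem f0_f0 (i : Fin m) (hi : i.val ≠ 0) : (f0 i).val ≠ 0 ∧ f0 (f0 i) = i := by
  have h1 := i.2
  have e : (f0 i).val = m - i.val := by simp [f0, hi]
  have h2 : (f0 i).val ≠ 0 := by omega
  refine ⟨h2, ?_⟩
  apply Fin.ext
  have e2 : (f0 (f0 i)).val = m - (f0 i).val := by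
    rw [f0, dif_neg h2]
  omega

theorem f1_f1 (i : Fin m) (hi : i.val + 1 ≠ m) : (f1 i).val + 1 ≠ m ∧ f1 (f1 i) = i := by
  have h1 := i.2
  have e : (f1 i).val = m - 2 - i.val := by simp [f1, hi]
  have h2 : (f1 i).val + 1 ≠ m := by omega
  refine ⟨h2, ?_⟩
  apply Fin.ext
  have e2 : (f1 (f1 i)).val = m - 2 - (f1 i).val := by
    rw [f1, dif_neg h2]
  omega

namespace Axioms

variable {P} (A : P.Axioms)
include A

theorem n0_inv : P.n0⁻¹ = P.n0 := inv_eq_of_mul_eq_one_right A.n0_sq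
theorem n1_inv : P.n1⁻¹ = P.n1 := inv_eq_of_mul_eq_one_right A.n1_sq
theorem w0_inv : P.w0⁻¹ = P.w0 := inv_eq_of_mul_eq_one_right A.w0_sq

theorem mem_XX_true (i : Fin m) (x : Γ) : x ∈ P.XX (true, i) ↔ P.w0 * x * P.w0 ∈ P.X i.val := by
  rw [XX_true]
  constructor
  · rintro ⟨y, hy, rfl⟩
    have e : P.w0 * (MulAut.conj P.w0).toMonoidHom y * P.w0 = y := by
      have h := A.w0_sq
      simp only [MulEquiv.coe_toMonoidHom, MulAut.conj_apply, A.w0_inv]
      calc P.w0 * (P.w0 * y * P.w0) * P.w0 = (P.w0 * P.w0) * y * (P.w0 * P.w0) := by group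
        _ = y := by rw [h]; group
    rw [e]; exact hy
  · intro h
    refine ⟨_, h, ?_⟩
    have h2 := A.w0_sq
    simp only [MulEquiv.coe_toMonoidHom, MulAut.conj_apply, A.w0_inv]
    calc P.w0 * (P.w0 * x * P.w0) * P.w0 = (P.w0 * P.w0) * x * (P.w0 * P.w0) := by group
      _ = x := by rw [h2]; group

theorem ww0 (x : Γ) (hx : x ∈ P.X 0) : P.w0 * (P.n0 * x * P.n0) * P.w0 = x := by
  have h1 : P.w0 * (P.n0 * x * P.n0) * P.w0 = (P.w0 * P.n0) * x * (P.n0 * P.w0) := by group
  have h2 := A.wX0 x hx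
  rw [h1, A.w0_n0, h2]
  have h3 : x * (P.n0 * P.w0) * (P.n0 * P.w0) = x * (P.n0 * (P.w0 * P.n0) * P.w0) := by group
  rw [h3, A.w0_n0]
  have h4 : P.n0 * (P.n0 * P.w0) * P.w0 = (P.n0 * P.n0) * (P.w0 * P.w0) := by group
  rw [h4, A.n0_sq, A.w0_sq, mul_one, mul_one]

theorem ww1 (x : Γ) (hx : x ∈ P.X (m - 1)) : P.w0 * (P.n1 * x * P.n1) * P.w0 = x := by
  have h1 : P.w0 * (P.n1 * x * P.n1) * P.w0 = (P.w0 * P.n1) * x * (P.n1 * P.w0) := by group
  have h2 := A.wX1 x hx
  rw [h1, A.w0_n1, h2]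
  have h3 : x * (P.n1 * P.w0) * (P.n1 * P.w0) = x * (P.n1 * (P.w0 * P.n1) * P.w0) := by group
  rw [h3, A.w0_n1]
  have h4 : P.n1 * (P.n1 * P.w0) * P.w0 = (P.n1 * P.n1) * (P.w0 * P.w0) := by group
  rw [h4, A.n1_sq, A.w0_sq, mul_one, mul_one]

theorem swap0 (x : Γ) : P.w0 * (P.n0 * x * P.n0) * P.w0 = P.n0 * (P.w0 * x * P.w0) * P.n0 := by
  have h1 : P.w0 * (P.n0 * x * P.n0) * P.w0 = (P.w0 * P.n0) * x * (P.n0 * P.w0) := by group
  rw [h1, A.w0_n0, ← A.w0_n0]
  nth_rewrite 1 [A.w0_n0]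
  group

theorem swap1 (x : Γ) : P.w0 * (P.n1 * x * P.n1) * P.w0 = P.n1 * (P.w0 * x * P.w0) * P.n1 := by
  have h1 : P.w0 * (P.n1 * x * P.n1) * P.w0 = (P.w0 * P.n1) * x * (P.n1 * P.w0) := by group
  rw [h1, A.w0_n1, ← A.w0_n1]
  nth_rewrite 1 [A.w0_n1]
  group

variable [NeZero m]

theorem conjn_false (r : Bool × Fin m) (x : Γ) (hx : x ∈ P.XX r) :
    P.n0 * x * P.n0 ∈ P.XX (P.toRData.refl false r) := by
  obtain ⟨s, i⟩ := r
  have hm := A.two_le
  cases s with
  | false =>
    rw [XX_false] at hx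
    by_cases hi : i.val = 0
    · have e : P.toRData.refl false (false, i) = (true, i) := if_pos hi
      rw [e, A.mem_XX_true, hi]
      rw [hi] at hx
      rw [A.ww0 x hx]; exact hx
    · have e : P.toRData.refl false (false, i) = (false, f0 i) := if_neg hi
      rw [e, XX_false]
      have e2 : (f0 i).val = m - i.val := by simp [f0, hi]
      rw [e2]
      exact A.c0 i.val (by omega) i.2 x hx
  | true =>
    rw [A.mem_XX_true] at hx
    by_cases hi : i.val = 0
    · have e : P.toRData.refl false (true, i) = (false, i) := if_pos hi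
      rw [e, XX_false, hi]
      rw [hi] at hx
      have h1 := A.ww0 _ hx
      rw [A.swap0] at h1
      have h2 : P.w0 * (P.w0 * x * P.w0) * P.w0 = x := by
        have : P.w0 * (P.w0 * x * P.w0) * P.w0 = (P.w0 * P.w0) * x * (P.w0 * P.w0) := by group
        rw [this, A.w0_sq]; group
      rw [h2] at h1
      rw [h1]; exact hx
    · have e : P.toRData.refl false (true, i) = (true, f0 i) := if_neg hi
      rw [e, A.mem_XX_true]
      have e2 : (f0 i).val = m - i.val := by simp [f0, hi]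
      rw [e2, A.swap0]
      exact A.c0 i.val (by omega) i.2 _ hx

theorem conjn_true (r : Bool × Fin m) (x : Γ) (hx : x ∈ P.XX r) :
    P.n1 * x * P.n1 ∈ P.XX (P.toRData.refl true r) := by
  obtain ⟨s, i⟩ := r
  have hm := A.two_le
  have hi2 := i.2
  cases s with
  | false =>
    rw [XX_false] at hx
    by_cases hi : i.val + 1 = m
    · have e : P.toRData.refl true (false, i) = (true, i) := if_pos hi
      have hi' : i.val = m - 1 := by omega
      rw [e, A.mem_XX_true, hi']
      rw [hi'] at hx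
      rw [A.ww1 x hx]; exact hx
    · have e : P.toRData.refl true (false, i) = (false, f1 i) := if_neg hi
      rw [e, XX_false]
      have e2 : (f1 i).val = m - 2 - i.val := by simp [f1, hi]
      rw [e2]
      exact A.c1 i.val (by omega) x hx
  | true =>
    rw [A.mem_XX_true] at hx
    by_cases hi : i.val + 1 = m
    · have e : P.toRData.refl true (true, i) = (false, i) := if_pos hi
      have hi' : i.val = m - 1 := by omega
      rw [e, XX_false, hi']
      rw [hi'] at hx
      have h1 := A.ww1 _ hx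
      rw [A.swap1] at h1
      have h2 : P.w0 * (P.w0 * x * P.w0) * P.w0 = x := by
        have : P.w0 * (P.w0 * x * P.w0) * P.w0 = (P.w0 * P.w0) * x * (P.w0 * P.w0) := by group
        rw [this, A.w0_sq]; group
      rw [h2] at h1
      rw [h1]; exact hx
    · have e : P.toRData.refl true (true, i) = (true, f1 i) := if_neg hi
      rw [e, A.mem_XX_true]
      have e2 : (f1 i).val = m - 2 - i.val := by simp [f1, hi]
      rw [e2, A.swap1]
      exact A.c1 i.val (by omega) _ hx

theorem refl_refl (i : Bool) (r : Bool × Fin m) : P.toRData.refl i (P.toRData.refl i r) = r := by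
  obtain ⟨s, j⟩ := r
  cases i with
  | false =>
    by_cases hj : j.val = 0
    · have e : P.toRData.refl false (s, j) = (!s, j) := if_pos hj
      have e2 : P.toRData.refl false (!s, j) = (!!s, j) := if_pos hj
      rw [e, e2, Bool.not_not]
    · obtain ⟨h1, h2⟩ := f0_f0 j hj
      have e : P.toRData.refl false (s, j) = (s, f0 j) := if_neg hj
      have e2 : P.toRData.refl false (s, f0 j) = (s, f0 (f0 j)) := if_neg h1
      rw [e, e2, h2]
  | true =>
    by_cases hj : j.val + 1 = m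
    · have e : P.toRData.refl true (s, j) = (!s, j) := if_pos hj
      have e2 : P.toRData.refl true (!s, j) = (!!s, j) := if_pos hj
      rw [e, e2, Bool.not_not]
    · obtain ⟨h1, h2⟩ := f1_f1 j hj
      have e : P.toRData.refl true (s, j) = (s, f1 j) := if_neg hj
      have e2 : P.toRData.refl true (s, f1 j) = (s, f1 (f1 j)) := if_neg h1
      rw [e, e2, h2]

theorem tor0_mem {h : Γ} (hh : P.Tor0 h) : h ∈ P.HH := by
  obtain ⟨h1, h2, h3⟩ := hh
  have key : P.w0 * h * P.w0 = h⁻¹ := by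
    have e1 : P.w0 * h * P.w0 = (P.n0 * P.n0) * P.w0 * h * P.w0 := by rw [A.n0_sq]; group
    have e2 : (P.n0 * P.n0) * P.w0 * h * P.w0 = P.n0 * ((P.n0 * P.w0) * h) * P.w0 := by group
    rw [e1, e2, ← h2]
    have e3 : P.n0 * (h * (P.n0 * P.w0)) * P.w0 = (P.n0 * h * P.n0) * (P.w0 * P.w0) := by group
    rw [e3, h1, A.w0_sq, mul_one]
  have key2 : P.w0 * h⁻¹ * P.w0 = h := by
    have := congrArg (fun y => y⁻¹) key
    simp only [mul_inv_rev, A.w0_inv, inv_inv] at this
    rw [mul_assoc]; exact this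
  rintro ⟨s, i⟩ x hx
  cases s with
  | false => exact h3 i.val i.2 x hx
  | true =>
    rw [A.mem_XX_true] at hx
    rw [A.mem_XX_true, A.mem_XX_true]
    constructor
    · have e : P.w0 * (h * x * h⁻¹) * P.w0 = (P.w0 * h * P.w0) * (P.w0 * x * P.w0) * (P.w0 * h⁻¹ * P.w0) := by
        have : (P.w0 * h * P.w0) * (P.w0 * x * P.w0) * (P.w0 * h⁻¹ * P.w0) =
          P.w0 * h * (P.w0 * P.w0) * x * (P.w0 * P.w0) * h⁻¹ * P.w0 := by group
        rw [this, A.w0_sq]; group
      rw [e, key, key2]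
      exact (h3 i.val i.2 _ hx).2
    · have e : P.w0 * (h⁻¹ * x * h) * P.w0 = (P.w0 * h⁻¹ * P.w0) * (P.w0 * x * P.w0) * (P.w0 * h * P.w0) := by
        have : (P.w0 * h⁻¹ * P.w0) * (P.w0 * x * P.w0) * (P.w0 * h * P.w0) =
          P.w0 * h⁻¹ * (P.w0 * P.w0) * x * (P.w0 * P.w0) * h * P.w0 := by group
        rw [this, A.w0_sq]; group
      rw [e, key, key2]
      exact (h3 i.val i.2 _ hx).1

theorem tor1_mem {h : Γ} (hh : P.Tor1 h) : h ∈ P.HH := by
  obtain ⟨h1, h2, h3⟩ := hh
  have key : P.w0 * h * P.w0 = h⁻¹ := by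
    have e1 : P.w0 * h * P.w0 = (P.n1 * P.n1) * P.w0 * h * P.w0 := by rw [A.n1_sq]; group
    have e2 : (P.n1 * P.n1) * P.w0 * h * P.w0 = P.n1 * ((P.n1 * P.w0) * h) * P.w0 := by group
    rw [e1, e2, ← h2]
    have e3 : P.n1 * (h * (P.n1 * P.w0)) * P.w0 = (P.n1 * h * P.n1) * (P.w0 * P.w0) := by group
    rw [e3, h1, A.w0_sq, mul_one]
  have key2 : P.w0 * h⁻¹ * P.w0 = h := by
    have := congrArg (fun y => y⁻¹) key
    simp only [mul_inv_rev, A.w0_inv, inv_inv] at this
    rw [mul_assoc]; exact this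
  rintro ⟨s, i⟩ x hx
  cases s with
  | false => exact h3 i.val i.2 x hx
  | true =>
    rw [A.mem_XX_true] at hx
    rw [A.mem_XX_true, A.mem_XX_true]
    constructor
    · have e : P.w0 * (h * x * h⁻¹) * P.w0 = (P.w0 * h * P.w0) * (P.w0 * x * P.w0) * (P.w0 * h⁻¹ * P.w0) := by
        have : (P.w0 * h * P.w0) * (P.w0 * x * P.w0) * (P.w0 * h⁻¹ * P.w0) =
          P.w0 * h * (P.w0 * P.w0) * x * (P.w0 * P.w0) * h⁻¹ * P.w0 := by group
        rw [this, A.w0_sq]; group
      rw [e, key, key2]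
      exact (h3 i.val i.2 _ hx).2
    · have e : P.w0 * (h⁻¹ * x * h) * P.w0 = (P.w0 * h⁻¹ * P.w0) * (P.w0 * x * P.w0) * (P.w0 * h * P.w0) := by
        have : (P.w0 * h⁻¹ * P.w0) * (P.w0 * x * P.w0) * (P.w0 * h * P.w0) =
          P.w0 * h⁻¹ * (P.w0 * P.w0) * x * (P.w0 * P.w0) * h * P.w0 := by group
        rw [this, A.w0_sq]; group
      rw [e, key, key2]
      exact (h3 i.val i.2 _ hx).1


theorem conjn_any (i : Bool) (r : Bool × Fin m) (x : Γ) (hx : x ∈ P.XX r) :
    P.toRData.n i * x * (P.toRData.n i)⁻¹ ∈ P.XX (P.toRData.refl i r) := by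
  cases i with
  | false =>
    have e : P.toRData.n false = P.n0 := rfl
    rw [e, A.n0_inv]
    exact A.conjn_false r x hx
  | true =>
    have e : P.toRData.n true = P.n1 := rfl
    rw [e, A.n1_inv]
    exact A.conjn_true r x hx

theorem n_mul_n (i : Bool) : P.toRData.n i * P.toRData.n i = 1 := by
  cases i with
  | false => exact A.n0_sq
  | true => exact A.n1_sq

theorem n_inv (i : Bool) : (P.toRData.n i)⁻¹ = P.toRData.n i := inv_eq_of_mul_eq_one_right (A.n_mul_n i)

theorem sim_false : P.toRData.sim false = (false, ⟨0, Nat.pos_of_ne_zero (NeZero.ne m)⟩) := rfl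

theorem sim_true : P.toRData.sim true =
    (false, ⟨m - 1, Nat.sub_lt (Nat.pos_of_ne_zero (NeZero.ne m)) one_pos⟩) := rfl

theorem m_sub_add : m - 1 + 1 = m := by
  have := A.two_le
  omega

/-- `n0`-conjugates of the first root group are the negatives -/
theorem mem_neg0 {i : Fin m} (hi : i.val = 0) {x : Γ} (hx : x ∈ P.XX (true, i)) :
    ∃ y ∈ P.X 0, x = P.n0 * y * P.n0 := by
  rw [A.mem_XX_true, hi] at hx
  refine ⟨_, hx, ?_⟩
  have h1 := A.ww0 _ hx
  rw [A.swap0] at h1
  have h2 : P.w0 * (P.w0 * x * P.w0) * P.w0 = x := by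
    have : P.w0 * (P.w0 * x * P.w0) * P.w0 = (P.w0 * P.w0) * x * (P.w0 * P.w0) := by group
    rw [this, A.w0_sq]; group
  rw [h2] at h1
  rw [← h1]
  have : P.n0 * (P.n0 * x * P.n0) * P.n0 = (P.n0 * P.n0) * x * (P.n0 * P.n0) := by group
  rw [this, A.n0_sq]; group

theorem mem_neg1 {i : Fin m} (hi : i.val = m - 1) {x : Γ} (hx : x ∈ P.XX (true, i)) :
    ∃ y ∈ P.X (m - 1), x = P.n1 * y * P.n1 := by
  rw [A.mem_XX_true, hi] at hx
  refine ⟨_, hx, ?_⟩
  have h1 := A.ww1 _ hx
  rw [A.swap1] at h1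
  have h2 : P.w0 * (P.w0 * x * P.w0) * P.w0 = x := by
    have : P.w0 * (P.w0 * x * P.w0) * P.w0 = (P.w0 * P.w0) * x * (P.w0 * P.w0) := by group
    rw [this, A.w0_sq]; group
  rw [h2] at h1
  rw [← h1]
  have : P.n1 * (P.n1 * x * P.n1) * P.n1 = (P.n1 * P.n1) * x * (P.n1 * P.n1) := by group
  rw [this, A.n1_sq]; group

theorem neg0_mem {i : Fin m} (hi : i.val = 0) {y : Γ} (hy : y ∈ P.X 0) : P.n0 * y * P.n0 ∈ P.XX (true, i) := by
  rw [A.mem_XX_true, hi, A.ww0 y hy]; exact hy

theorem neg1_mem {i : Fin m} (hi : i.val = m - 1) {y : Γ} (hy : y ∈ P.X (m - 1)) :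
    P.n1 * y * P.n1 ∈ P.XX (true, i) := by
  rw [A.mem_XX_true, hi, A.ww1 y hy]; exact hy

theorem mem_Ui0 {j : ℕ} (hj : 1 ≤ j ∧ j < m) {x : Γ} (hx : x ∈ P.X j) : x ∈ P.toRData.Ui false := by
  have h : P.XX (false, ⟨j, hj.2⟩) ≤ P.toRData.Ui false := by
    refine le_iSup₂_of_le (f := fun (r : Bool × Fin m) (_ : P.toRData.pos r ∧ r ≠ P.toRData.sim false) =>
      P.toRData.X r) (false, ⟨j, hj.2⟩) ⟨rfl, ?_⟩ le_rfl
    rw [A.sim_false]
    intro h
    have := congrArg (fun r : Bool × Fin m => r.2.val) h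
    simp only at this
    omega
  exact h hx

theorem mem_Ui1 {j : ℕ} (hj : j + 2 ≤ m) {x : Γ} (hx : x ∈ P.X j) : x ∈ P.toRData.Ui true := by
  have h : P.XX (false, ⟨j, by omega⟩) ≤ P.toRData.Ui true := by
    refine le_iSup₂_of_le (f := fun (r : Bool × Fin m) (_ : P.toRData.pos r ∧ r ≠ P.toRData.sim true) =>
      P.toRData.X r) (false, ⟨j, by omega⟩) ⟨rfl, ?_⟩ le_rfl
    rw [A.sim_true]
    intro h
    have := congrArg (fun r : Bool × Fin m => r.2.val) h
    simp only at this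
    omega
  exact h hx

theorem unorm (i : Bool) (x : Γ) (hx : x ∈ P.toRData.X (P.toRData.sim i)) (u : Γ) (hu : u ∈ P.toRData.Ui i) :
    x * u * x⁻¹ ∈ P.toRData.Ui i := by
  have hm := A.two_le
  have key : P.toRData.Ui i ≤ (P.toRData.Ui i).comap (MulAut.conj x).toMonoidHom := by
    refine iSup₂_le ?_
    rintro ⟨s, j⟩ ⟨hs, hne⟩ v hv
    have hs' : s = false := hs
    subst hs'
    show x * v * x⁻¹ ∈ P.toRData.Ui i
    have hv' : v ∈ P.X j.val := hv
    cases i with
    | false =>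
      have hj : j.val ≠ 0 := by
        intro h0
        apply hne
        rw [A.sim_false]
        exact Prod.ext rfl (Fin.ext h0)
      have hx' : x ∈ P.X 0 := hx
      have h := A.un0 x hx' j.val (by omega) j.2 v hv'
      have hle : (⨆ (j : ℕ) (_ : 1 ≤ j ∧ j < m), P.X j) ≤ P.toRData.Ui false :=
        iSup₂_le fun k hk y hy => A.mem_Ui0 hk hy
      exact hle h
    | true =>
      have hj : j.val ≠ m - 1 := by
        intro h0
        apply hne
        rw [A.sim_true]
        exact Prod.ext rfl (Fin.ext h0)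
      have hx' : x ∈ P.X (m - 1) := hx
      have h := A.un1 x hx' j.val (by have := j.2; omega) v hv'
      have hle : (⨆ (j : ℕ) (_ : j + 2 ≤ m), P.X j) ≤ P.toRData.Ui true :=
        iSup₂_le fun k hk y hy => A.mem_Ui1 hk hy
      exact hle h
  exact key hu

/-- The axioms of `SteinbergBruhat` -/
theorem axioms_toRData (hnd : ∀ i : Fin m, ¬ P.XX (true, i) ≤ P.toRData.B) : P.toRData.Axioms where
  refl_refl := A.refl_refl
  refl_sim := by
    intro i
    cases i with
    | false =>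
      rw [A.sim_false]
      rfl
    | true =>
      rw [A.sim_true]
      have e : P.toRData.refl true (false, ⟨m - 1, Nat.sub_lt (Nat.pos_of_ne_zero (NeZero.ne m)) one_pos⟩) =
        (!false, ⟨m - 1, Nat.sub_lt (Nat.pos_of_ne_zero (NeZero.ne m)) one_pos⟩) := if_pos A.m_sub_add
      rw [e]; rfl
  refl_pos := by
    rintro i ⟨s, j⟩ hs hne
    have hs' : s = false := hs
    subst hs'
    cases i with
    | false =>
      have hj : j.val ≠ 0 := by
        intro h0
        apply hne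
        rw [A.sim_false]
        exact Prod.ext rfl (Fin.ext h0)
      have e : P.toRData.refl false (false, j) = (false, f0 j) := if_neg hj
      rw [e]; rfl
    | true =>
      have hj : ¬ j.val + 1 = m := by
        intro h0
        apply hne
        rw [A.sim_true]
        exact Prod.ext rfl (Fin.ext (by simp only; omega))
      have e : P.toRData.refl true (false, j) = (false, f1 j) := if_neg hj
      rw [e]; rfl
  refl_neg := by
    rintro i ⟨s, j⟩
    have e0 : P.toRData.neg (s, j) = (!s, j) := rfl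
    rw [e0]
    cases i with
    | false =>
      by_cases hj : j.val = 0
      · have e : P.toRData.refl false (s, j) = (!s, j) := if_pos hj
        have e2 : P.toRData.refl false (!s, j) = (!!s, j) := if_pos hj
        rw [e, e2]; rfl
      · have e : P.toRData.refl false (s, j) = (s, f0 j) := if_neg hj
        have e2 : P.toRData.refl false (!s, j) = (!s, f0 j) := if_neg hj
        rw [e, e2]; rfl
    | true =>
      by_cases hj : j.val + 1 = m
      · have e : P.toRData.refl true (s, j) = (!s, j) := if_pos hj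
        have e2 : P.toRData.refl true (!s, j) = (!!s, j) := if_pos hj
        rw [e, e2]; rfl
      · have e : P.toRData.refl true (s, j) = (s, f1 j) := if_neg hj
        have e2 : P.toRData.refl true (!s, j) = (!s, f1 j) := if_neg hj
        rw [e, e2]; rfl
  pos_sim := by
    intro i
    cases i with
    | false => rfl
    | true => rfl
  pos_neg := by
    rintro ⟨s, j⟩
    show (!s) = false ↔ ¬ s = false
    cases s <;> simp
  conjH := fun h hh r x hx => (hh r x hx).1
  conjn := A.conjn_any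
  conjnH := by
    intro i h hh r x hx
    have e1 : P.toRData.n i * x * (P.toRData.n i)⁻¹ ∈ P.XX (P.toRData.refl i r) := A.conjn_any i r x hx
    have e2 := hh _ _ e1
    have e3 := A.conjn_any i _ _ e2.1
    have e4 := A.conjn_any i _ _ e2.2
    rw [A.refl_refl] at e3 e4
    have hn := A.n_inv i
    rw [hn] at e3 e4 ⊢
    constructor
    · have : P.toRData.n i * h * P.toRData.n i * x * (P.toRData.n i * h * P.toRData.n i)⁻¹ =
        P.toRData.n i * (h * (P.toRData.n i * x * P.toRData.n i) * h⁻¹) * P.toRData.n i := by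
        rw [mul_inv_rev, mul_inv_rev, hn]; group
      rw [this]; exact e3
    · have : (P.toRData.n i * h * P.toRData.n i)⁻¹ * x * (P.toRData.n i * h * P.toRData.n i) =
        P.toRData.n i * (h⁻¹ * (P.toRData.n i * x * P.toRData.n i) * h) * P.toRData.n i := by
        rw [mul_inv_rev, mul_inv_rev, hn]; group
      rw [this]; exact e4
  nn := by
    intro i
    rw [A.n_mul_n]
    exact P.toRData.H.one_mem
  nmem := by
    intro i
    cases i with
    | false =>
      obtain ⟨a, ha, b, hb, c, hc, e⟩ := A.gen0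
      have e0 : P.toRData.n false = P.n0 := rfl
      rw [e0, e]
      refine Subgroup.mem_sup_left ?_
      refine Subgroup.mul_mem _ (Subgroup.mul_mem _ ?_ ?_) ?_
      · exact (le_sup_left : P.toRData.X (P.toRData.sim false) ≤ _) ha
      · exact (le_sup_right : P.toRData.X (P.toRData.neg (P.toRData.sim false)) ≤ _) (A.neg0_mem rfl hb)
      · exact (le_sup_left : P.toRData.X (P.toRData.sim false) ≤ _) hc
    | true =>
      obtain ⟨a, ha, b, hb, c, hc, e⟩ := A.gen1
      have e0 : P.toRData.n true = P.n1 := rfl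
      rw [e0, e]
      refine Subgroup.mem_sup_left ?_
      refine Subgroup.mul_mem _ (Subgroup.mul_mem _ ?_ ?_) ?_
      · exact (le_sup_left : P.toRData.X (P.toRData.sim true) ≤ _) ha
      · exact (le_sup_right : P.toRData.X (P.toRData.neg (P.toRData.sim true)) ≤ _) (A.neg1_mem rfl hb)
      · exact (le_sup_left : P.toRData.X (P.toRData.sim true) ≤ _) hc
  Xneg := by
    intro i x hx
    cases i with
    | false =>
      obtain ⟨y, hy, rfl⟩ := A.mem_neg0 rfl (show x ∈ P.XX (true, _) from hx)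
      by_cases h1 : y = 1
      · left; rw [h1, mul_one, A.n0_sq]
      · right
        obtain ⟨a, ha, h, hh, b, hb, e⟩ := A.r0 y hy h1
        exact ⟨a, ha, h, A.tor0_mem hh, b, hb, e⟩
    | true =>
      obtain ⟨y, hy, rfl⟩ := A.mem_neg1 rfl (show x ∈ P.XX (true, _) from hx)
      by_cases h1 : y = 1
      · left; rw [h1, mul_one, A.n1_sq]
      · right
        obtain ⟨a, ha, h, hh, b, hb, e⟩ := A.r1 y hy h1
        exact ⟨a, ha, h, A.tor1_mem hh, b, hb, e⟩
  Unorm := A.unorm
  notle := by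
    rintro ⟨s, j⟩ hs
    have : s = true := by
      cases s
      · exact absurd rfl hs
      · rfl
    subst this
    exact hnd j

end Axioms

end PosData

end Cfsg.Agent.RankTwo.Dihedral
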