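import Cfsg.Agent.RankTwo.Dihedral

/-!
# Goursat argument for rank two root data

`Γ` has a positive rank two root datum and two jointly injective surjections to simple groups `G`, `K`;
if the negative root groups are not absorbed in `K`, then `G ≃* K`.
-/

set_option autoImplicit false
set_option linter.unusedSectionVars false

namespace Cfsg.Agent.RankTwo.Goursat

open Cfsg.Agent.ChevalleyStructure.SteinbergBruhat
open Cfsg.Agent.RankTwo.Dihedral

variable {m : ℕ} [NeZero m] {Γ : Type*} [Group Γ] (P : PosData m Γ)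

/-- the negative root group of a positive root -/
theorem U_eq : P.toRData.U = ⨆ i : Fin m, P.X i.val := by
  apply le_antisymm
  · refine iSup₂_le ?_
    rintro ⟨s, i⟩ hs
    have hs' : s = false := hs
    subst hs'
    exact le_iSup (fun i : Fin m => P.X i.val) i
  · refine iSup_le fun i => ?_
    exact le_iSup₂_of_le (f := fun (r : Bool × Fin m) (_ : P.toRData.pos r) => P.toRData.X r) (false, i) rfl le_rfl

theorem B_le_normalizer : P.toRData.B ≤ Subgroup.normalizer (P.toRData.U : Set Γ) := by
  refine sup_le Subgroup.le_normalizer ?_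
  intro h hh
  rw [Subgroup.mem_normalizer_iff]
  have key : ∀ k ∈ P.HH, ∀ u ∈ P.toRData.U, k * u * k⁻¹ ∈ P.toRData.U := by
    intro k hk u hu
    have : P.toRData.U ≤ P.toRData.U.comap (MulAut.conj k).toMonoidHom := by
      refine iSup₂_le fun r hr x hx => ?_
      have h1 : k * x * k⁻¹ ∈ P.toRData.X r := (hk r x hx).1
      exact (le_iSup₂_of_le (f := fun (r : Bool × Fin m) (_ : P.toRData.pos r) => P.toRData.X r) r hr le_rfl) h1
    exact this hu
  intro u
  constructor
  · exact key h hh u
  · intro hu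
    have := key h⁻¹ (P.HH.inv_mem hh) _ hu
    have e : h⁻¹ * (h * u * h⁻¹) * h⁻¹⁻¹ = u := by group
    rwa [e] at this

theorem gen_top (hgen : (⨆ i : Fin m, P.X i.val) ⊔ Subgroup.closure {P.n0, P.n1} = ⊤) :
    P.toRData.B ⊔ Subgroup.closure (Set.range P.toRData.n) = ⊤ := by
  rw [eq_top_iff, ← hgen]
  refine sup_le ?_ ?_
  · rw [← U_eq]
    exact le_sup_of_le_left le_sup_left
  · rw [Subgroup.closure_le]
    rintro x (rfl | rfl)
    · exact (le_sup_right : _ ≤ P.toRData.B ⊔ Subgroup.closure (Set.range P.toRData.n))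
        (Subgroup.subset_closure ⟨false, rfl⟩)
    · exact (le_sup_right : _ ≤ P.toRData.B ⊔ Subgroup.closure (Set.range P.toRData.n))
        (Subgroup.subset_closure ⟨true, rfl⟩)

variable {P}

/-- **Goursat.** -/
theorem iso_of_joint (A : P.Axioms) {G K : Type*} [Group G] [Group K] [IsSimpleGroup G] [IsSimpleGroup K]
    (hgen : (⨆ i : Fin m, P.X i.val) ⊔ Subgroup.closure {P.n0, P.n1} = ⊤)
    (π₁ : Γ →* G) (π₂ : Γ →* K) (h₁ : Function.Surjective π₁) (h₂ : Function.Surjective π₂)
    (hj : π₁.ker ⊓ π₂.ker = ⊥)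
    (hnd : ∀ i : Fin m, ¬ (P.XX (true, i)).map π₂ ≤ P.toRData.B.map π₂)
    (hU : P.toRData.U.map π₁ ≠ ⊤) : Nonempty (G ≃* K) := by
  have AR : P.toRData.Axioms := A.axioms_toRData fun i hi => hnd i (Subgroup.map_mono hi)
  have hker : π₂.ker ≤ P.toRData.B := by
    refine AR.ker_le_B (gen_top P hgen) π₂ ?_
    rintro ⟨s, i⟩ hs
    have : s = true := by
      cases s
      · exact absurd rfl hs
      · rfl
    subst this
    exact hnd i
  have hN : (π₂.ker.map π₁).Normal := Subgroup.Normal.map inferInstance π₁ h₁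
  rcases hN.eq_bot_or_eq_top with h0 | h0
  · -- `Γ ≃ K`
    have hk : π₂.ker ≤ π₁.ker := by
      intro x hx
      have : π₁ x ∈ π₂.ker.map π₁ := ⟨x, hx, rfl⟩
      rw [h0] at this
      exact this
    have hk2 : π₂.ker = ⊥ := by
      rw [← hj]; exact (inf_eq_right.2 hk).symm
    have inj2 : Function.Injective π₂ := (MonoidHom.ker_eq_bot_iff π₂).1 hk2
    let e : Γ ≃* K := MulEquiv.ofBijective π₂ ⟨inj2, h₂⟩
    have : IsSimpleGroup Γ := by
      have : Nontrivial Γ := e.toEquiv.nontrivial
      refine ⟨fun N hN => ?_⟩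
      have hN' : (N.map e.toMonoidHom).Normal := Subgroup.Normal.map hN _ e.surjective
      rcases hN'.eq_bot_or_eq_top with h | h
      · left
        exact (Subgroup.map_eq_bot_iff_of_injective N e.injective).1 h
      · right
        rw [eq_top_iff]
        intro x _
        have : e.toMonoidHom x ∈ N.map e.toMonoidHom := h ▸ Subgroup.mem_top _
        obtain ⟨y, hy, hyx⟩ := this
        have := e.injective hyx
        rwa [← this]
    have hk1 : π₁.ker = ⊥ := by
      rcases (inferInstance : π₁.ker.Normal).eq_bot_or_eq_top with h | h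
      · exact h
      · exfalso
        obtain ⟨g, hg⟩ := exists_ne (1 : G)
        obtain ⟨x, rfl⟩ := h₁ g
        apply hg
        have : x ∈ π₁.ker := h ▸ Subgroup.mem_top x
        exact this
    have inj1 : Function.Injective π₁ := (MonoidHom.ker_eq_bot_iff π₁).1 hk1
    exact ⟨(MulEquiv.ofBijective π₁ ⟨inj1, h₁⟩).symm.trans e⟩
  · exfalso
    have hB : P.toRData.B.map π₁ = ⊤ := by
      rw [eq_top_iff, ← h0]; exact Subgroup.map_mono hker
    have hUn : (P.toRData.U.map π₁).Normal := by
      constructor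
      rintro _ ⟨u, hu, rfl⟩ g
      have : g ∈ P.toRData.B.map π₁ := hB ▸ Subgroup.mem_top g
      obtain ⟨b, hb, rfl⟩ := this
      refine ⟨b * u * b⁻¹, ?_, by simp⟩
      exact ((Subgroup.mem_normalizer_iff.1 (B_le_normalizer P hb)) u).1 hu
    rcases hUn.eq_bot_or_eq_top with h | h
    · have hX : ∀ i, i < m → ∀ x ∈ P.X i, π₁ x = 1 := by
        intro i hi x hx
        have h1 : x ∈ P.toRData.U := by
          rw [U_eq]; exact (le_iSup (fun i : Fin m => P.X i.val) ⟨i, hi⟩) hx
        have : π₁ x ∈ P.toRData.U.map π₁ := ⟨x, h1, rfl⟩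
        rw [h] at this
        exact this
      have hm := A.two_le
      have hn0 : π₁ P.n0 = 1 := by
        obtain ⟨a, ha, b, hb, c, hc, e⟩ := A.gen0
        have := congrArg π₁ e
        simp only [map_mul, hX 0 (by omega) a ha, hX 0 (by omega) b hb, hX 0 (by omega) c hc, one_mul,
          mul_one] at this
        have h2 := congrArg π₁ A.n0_sq
        rw [map_mul, map_one] at h2
        rw [this, h2]
      have hn1 : π₁ P.n1 = 1 := by
        obtain ⟨a, ha, b, hb, c, hc, e⟩ := A.gen1
        have := congrArg π₁ e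
        simp only [map_mul, hX (m - 1) (by omega) a ha, hX (m - 1) (by omega) b hb, hX (m - 1) (by omega) c hc,
          one_mul, mul_one] at this
        have h2 := congrArg π₁ A.n1_sq
        rw [map_mul, map_one] at h2
        rw [this, h2]
      have hle : (⊤ : Subgroup Γ) ≤ π₁.ker := by
        rw [← hgen]
        refine sup_le (iSup_le fun i x hx => hX i.val i.2 x hx) ?_
        rw [Subgroup.closure_le]
        rintro x (rfl | rfl)
        · exact hn0
        · exact hn1
      obtain ⟨g, hg⟩ := exists_ne (1 : G)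
      obtain ⟨x, rfl⟩ := h₁ g
      exact hg (hle (Subgroup.mem_top x))
    · exact hU h

end Cfsg.Agent.RankTwo.Goursat
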